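import Groth.Agent.Lib.ExtFilt.Main
import Groth.Agent.Lib.Cyc.CH.FiltTensor
import Groth.Agent.Lib.TensorMod.Basic
import Groth.Agent.Lib.SurfInt.H2Vanish
import Mathlib.RingTheory.PowerSeries.Inverse

/-!
# The λ-structure on the Grothendieck group of vector bundles
-/

set_option autoImplicit false
set_option linter.style.haveILetI false
universe u

open CategoryTheory CategoryTheory.Limits AlgebraicGeometry Opposite TopologicalSpace

noncomputable section

namespace Groth.Agent.Lib.ExtFilt.Lambda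

open Groth.Agent.Lib Sheaf Main
open Groth.Agent.Lib.TensorMod.Dual (rs rs_smul)
open Groth.Agent.Lib.Modules.TensorSec (app_rs)

variable {X : Scheme.{u}}

/-- The property of being a bundle. -/
abbrev P (X : Scheme.{u}) : ObjectProperty X.Modules := fun M => FlatMod.IsFinLocFree M

theorem cl_congr {M N : X.Modules} (e : M ≅ N) (hM : FlatMod.IsFinLocFree M) : cl M = cl N := by
  have hN := TensorMod.LocFree.of_iso e hM
  have hz : IsZero (kernel (𝟙 N)) := isZero_kernel_of_mono _
  haveI : (kernel (𝟙 N)).IsQuasicoherent := by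
    haveI := Modules.AffineSections.isQCoh_of_isFinLocFree hN
    exact QCoh.Closure.isQCoh_kernel _
  have hzf : FlatMod.IsFinLocFree (kernel (𝟙 N)) :=
    Modules.AffineSections.isFinLocFree_of_sections fun x => by
      obtain ⟨U, -, hxU⟩ := Modules.AffineHom.exists_affine (show x ∈ (⊤ : X.Opens) from trivial)
      haveI := Modules.AffineSections.subsingleton_sections hz U.1
      exact ⟨U.1, U.2, hxU, inferInstance, inferInstance⟩
  have h := KRes.KSub.rel (P := P X) (KRes.KSub.shortExact_iso e hz) hM hN hzf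
  rw [KRes.KSub.clSub_zero hz hzf, add_zero] at h
  exact h.symm

theorem nonempty_iso_aux {E L L' : X.Modules} {i : ℕ}
    (φ : ∀ U : X.affineOpens, Γ(L, U.1) ≃ₗ[Γ(X, U.1)] ↥(⋀[Γ(X, U.1)]^i Γ(E, U.1)))
    (hφ : ∀ (U V : X.affineOpens) (h : V.1 ≤ U.1) (e : Fin i → Γ(E, U.1)),
      rs L h ((φ U).symm (exteriorPower.ιMulti _ i e)) = (φ V).symm (exteriorPower.ιMulti _ i fun k => rs E h (e k)))
    (φ' : ∀ U : X.affineOpens, Γ(L', U.1) ≃ₗ[Γ(X, U.1)] ↥(⋀[Γ(X, U.1)]^i Γ(E, U.1)))
    (hφ' : ∀ (U V : X.affineOpens) (h : V.1 ≤ U.1) (e : Fin i → Γ(E, U.1)),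
      rs L' h ((φ' U).symm (exteriorPower.ιMulti _ i e)) = (φ' V).symm (exteriorPower.ιMulti _ i fun k => rs E h (e k))) :
    Nonempty (L ≅ L') := by
  obtain ⟨ψ, hψ⟩ := Modules.AffineHom.exists_hom_of_affine
    (fun U => ((φ U).trans (φ' U).symm).toLinearMap) fun U V hVU m => by
      obtain ⟨t, rfl⟩ := (φ U).symm.surjective m
      have ht : t ∈ Submodule.span Γ(X, U.1)
          (Set.range (exteriorPower.ιMulti Γ(X, U.1) i (M := Γ(E, U.1)))) := by
        rw [exteriorPower.ιMulti_span]; trivial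
      induction ht using Submodule.span_induction with
      | mem t ht =>
        obtain ⟨e, rfl⟩ := ht
        simp only [LinearEquiv.coe_coe, LinearEquiv.trans_apply, LinearEquiv.apply_symm_apply, hφ U V hVU e]
        exact hφ' U V hVU e
      | zero => simp only [map_zero]
      | add a b _ _ ha hb => simp only [map_add, ha, hb]
      | smul c a _ ha => simp only [map_smul, rs_smul, ha]
  haveI := Groth.Agent.Lib.ClSub.Basis.isIso_of_bijective_affine ψ fun U => by
    rw [show ⇑(ψ.app U.1) = ⇑((φ U).trans (φ' U).symm) from funext (hψ U)]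
    exact LinearEquiv.bijective _
  exact ⟨asIso ψ⟩

/-- Two exterior powers of the same module are isomorphic. -/
theorem nonempty_iso_of_isExtPow {E L L' : X.Modules} {i : ℕ} (h : ExtPow.IsExtPow i E L)
    (h' : ExtPow.IsExtPow i E L') : Nonempty (L ≅ L') := by
  obtain ⟨φ, hφ⟩ := h
  obtain ⟨φ', hφ'⟩ := h'
  exact nonempty_iso_aux φ hφ φ' hφ'

theorem isFinLocFree_structure : FlatMod.IsFinLocFree (Coh.structureModule X) :=
  TensorMod.LocFree.of_rank (TensorMod.LocFree.of_isInvertible SurfInt.H2Vanish.isInvertible_structure)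

theorem isExtPow_zero (E : X.Modules) : ExtPow.IsExtPow 0 E (Coh.structureModule X) := by
  refine ⟨fun U => (exteriorPower.zeroEquiv Γ(X, U.1) Γ(E, U.1)).symm, fun U V h e => ?_⟩
  show X.presheaf.map (homOfLE h).op (exteriorPower.zeroEquiv Γ(X, U.1) Γ(E, U.1)
      (exteriorPower.ιMulti _ 0 e)) =
    exteriorPower.zeroEquiv Γ(X, V.1) Γ(E, V.1) (exteriorPower.ιMulti _ 0 fun j => rs E h (e j))
  rw [exteriorPower.zeroEquiv_ιMulti, exteriorPower.zeroEquiv_ιMulti]
  exact map_one (X.presheaf.map (homOfLE h).op).hom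

theorem isExtPow_one (E : X.Modules) : ExtPow.IsExtPow 1 E E := by
  refine ⟨fun U => (exteriorPower.oneEquiv Γ(X, U.1) Γ(E, U.1)).symm, fun U V h e => ?_⟩
  show rs E h (exteriorPower.oneEquiv Γ(X, U.1) Γ(E, U.1) (exteriorPower.ιMulti _ 1 e)) =
    exteriorPower.oneEquiv Γ(X, V.1) Γ(E, V.1) (exteriorPower.ιMulti _ 1 fun j => rs E h (e j))
  rw [exteriorPower.oneEquiv_ιMulti, exteriorPower.oneEquiv_ιMulti]

theorem additive_tensor_right {N : X.Modules} (hN : FlatMod.IsFinLocFree N) (S : ShortComplex X.Modules)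
    (hS : S.ShortExact) (h₁ : P X S.X₁) (h₂ : P X S.X₂) (h₃ : P X S.X₃) :
    cl (CohB1.tensorMod S.X₂ N) = cl (CohB1.tensorMod S.X₁ N) + cl (CohB1.tensorMod S.X₃ N) :=
  KRes.KSub.rel (P := P X) (Cyc.CH.shortExact_tensor_right (TensorMod.FPConv.isFlat_of_isFinLocFree hN) hS)
    (TensorMod.LocFree.isFinLocFree_tensorMod h₁ hN) (TensorMod.LocFree.isFinLocFree_tensorMod h₂ hN)
    (TensorMod.LocFree.isFinLocFree_tensorMod h₃ hN)

theorem additive_tensor_left {N : X.Modules} (hN : FlatMod.IsFinLocFree N) (S : ShortComplex X.Modules)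
    (hS : S.ShortExact) (h₁ : P X S.X₁) (h₂ : P X S.X₂) (h₃ : P X S.X₃) :
    cl (CohB1.tensorMod N S.X₂) = cl (CohB1.tensorMod N S.X₁) + cl (CohB1.tensorMod N S.X₃) :=
  KRes.KSub.rel (P := P X) (Cyc.CH.shortExact_tensor_left' (TensorMod.FPConv.isFlat_of_isFinLocFree hN) hS)
    (TensorMod.LocFree.isFinLocFree_tensorMod hN h₁) (TensorMod.LocFree.isFinLocFree_tensorMod hN h₂)
    (TensorMod.LocFree.isFinLocFree_tensorMod hN h₃)

open Classical in
/-- Multiplication by a bundle. -/
def mulBy (E : X.Modules) : SGA6.Kvb X →+ SGA6.Kvb X :=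
  if h : FlatMod.IsFinLocFree E then
    KRes.KSub.lift (fun F => cl (CohB1.tensorMod E F)) (additive_tensor_left h)
  else 0

theorem mulBy_cl {E F : X.Modules} (hE : FlatMod.IsFinLocFree E) (hF : FlatMod.IsFinLocFree F) :
    mulBy E (cl F) = cl (CohB1.tensorMod E F) := by
  rw [mulBy, dif_pos hE]
  exact KRes.KSub.lift_cl _ _ hF

/-- The product. -/
def mul (X : Scheme.{u}) : SGA6.Kvb X →+ SGA6.Kvb X →+ SGA6.Kvb X :=
  KRes.KSub.lift (P := P X) mulBy fun S hS h₁ h₂ h₃ => KRes.KSub.hom_ext fun F hF => by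
    rw [AddMonoidHom.add_apply, mulBy_cl h₁ hF, mulBy_cl h₂ hF, mulBy_cl h₃ hF]
    exact additive_tensor_right hF S hS h₁ h₂ h₃

theorem mul_cl {E F : X.Modules} (hE : FlatMod.IsFinLocFree E) (hF : FlatMod.IsFinLocFree F) :
    mul X (cl E) (cl F) = cl (CohB1.tensorMod E F) := by
  rw [mul, KRes.KSub.lift_cl _ _ hE, mulBy_cl hE hF]

theorem mul_comm' (x y : SGA6.Kvb X) : mul X x y = mul X y x := by
  have h : mul X = (mul X).flip := KRes.KSub.hom_ext fun E hE => KRes.KSub.hom_ext fun F hF => by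
    rw [AddMonoidHom.flip_apply, mul_cl hE hF, mul_cl hF hE]
    exact cl_congr (TensorMod.Basic.comm E F) (TensorMod.LocFree.isFinLocFree_tensorMod hE hF)
  exact DFunLike.congr_fun (DFunLike.congr_fun h x) y

theorem mul_assoc' (x y z : SGA6.Kvb X) : mul X (mul X x y) z = mul X x (mul X y z) := by
  have h₃ : ∀ {E F : X.Modules}, FlatMod.IsFinLocFree E → FlatMod.IsFinLocFree F → ∀ z,
      mul X (mul X (cl E) (cl F)) z = mul X (cl E) (mul X (cl F) z) := fun {E F} hE hF => by
    have : mul X (mul X (cl E) (cl F)) = (mul X (cl E)).comp (mul X (cl F)) :=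
      KRes.KSub.hom_ext fun G hG => by
        have hEF := TensorMod.LocFree.isFinLocFree_tensorMod hE hF
        rw [AddMonoidHom.comp_apply, mul_cl hE hF, mul_cl hEF hG, mul_cl hF hG,
          mul_cl hE (TensorMod.LocFree.isFinLocFree_tensorMod hF hG)]
        exact cl_congr (TensorMod.Basic.assoc E F G) (TensorMod.LocFree.isFinLocFree_tensorMod hEF hG)
    exact DFunLike.congr_fun this
  have h₂ : ∀ {E : X.Modules}, FlatMod.IsFinLocFree E → ∀ y z,
      mul X (mul X (cl E) y) z = mul X (cl E) (mul X y z) := fun {E} hE y z => by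
    have : ((mul X).flip z).comp (mul X (cl E)) = (mul X (cl E)).comp ((mul X).flip z) :=
      KRes.KSub.hom_ext fun F hF => h₃ hE hF z
    exact DFunLike.congr_fun this y
  have h₁ : ((mul X).flip z).comp ((mul X).flip y) = (mul X).flip (mul X y z) :=
    KRes.KSub.hom_ext fun E hE => h₂ hE y z
  exact DFunLike.congr_fun h₁ x

theorem mul_one' (x : SGA6.Kvb X) : mul X (cl (Coh.structureModule X)) x = x := by
  have h : mul X (cl (Coh.structureModule X)) = AddMonoidHom.id _ := KRes.KSub.hom_ext fun F hF => by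
    rw [mul_cl isFinLocFree_structure hF, AddMonoidHom.id_apply]
    exact cl_congr (TensorMod.Basic.leftUnit F) (TensorMod.LocFree.isFinLocFree_tensorMod isFinLocFree_structure hF)
  exact DFunLike.congr_fun h x

/-- The ring structure. -/
abbrev ring (X : Scheme.{u}) : CommRing (SGA6.Kvb X) :=
  { (inferInstance : AddCommGroup (SGA6.Kvb X)) with
    mul := fun x y => mul X x y
    one := cl (Coh.structureModule X)
    mul_assoc := mul_assoc'
    one_mul := mul_one'
    mul_one := fun x => (mul_comm' _ _).trans (mul_one' x)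
    left_distrib := fun x y z => map_add (mul X x) y z
    right_distrib := fun x y z => DFunLike.congr_fun (map_add (mul X) x y) z
    zero_mul := fun x => DFunLike.congr_fun (map_zero (mul X)) x
    mul_zero := fun x => map_zero (mul X x)
    mul_comm := mul_comm' }

variable (hext : ∀ (i : ℕ) (E : X.Modules), FlatMod.IsFinLocFree E →
    ∃ L : X.Modules, FlatMod.IsFinLocFree L ∧ ExtPow.IsExtPow i E L)

/-- The exterior powers of a bundle. -/
def fam {E : X.Modules} (hE : FlatMod.IsFinLocFree E) : Fam E where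
  L i := (hext i E hE).choose
  free i := (hext i E hE).choose_spec.1
  φ i := (hext i E hE).choose_spec.2.choose
  compat i := (hext i E hE).choose_spec.2.choose_spec

theorem cl_fam {E L : X.Modules} (hE : FlatMod.IsFinLocFree E) {i : ℕ} (h : ExtPow.IsExtPow i E L) :
    cl ((fam hext hE).L i) = cl L := by
  obtain ⟨e⟩ := nonempty_iso_of_isExtPow (hext i E hE).choose_spec.2 h
  exact cl_congr e ((fam hext hE).free i)

include hext in
theorem exists_lam : ∃ lam : ℕ → SGA6.Kvb X → SGA6.Kvb X, SGA6.IsLambdaStructureVb X (mul X) lam := by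
  classical
  letI := ring X
  let c : X.Modules → PowerSeries (SGA6.Kvb X) := fun E =>
    if h : FlatMod.IsFinLocFree E then PowerSeries.mk fun i => cl ((fam hext h).L i) else 1
  have hc : ∀ {E : X.Modules} (hE : FlatMod.IsFinLocFree E) {i : ℕ} {L : X.Modules},
      ExtPow.IsExtPow i E L → PowerSeries.coeff i (c E) = cl L := fun {E} hE {i L} h => by
    simp only [c, dif_pos hE, PowerSeries.coeff_mk]
    exact cl_fam hext hE h
  have hc0 : ∀ {E : X.Modules}, FlatMod.IsFinLocFree E → PowerSeries.constantCoeff (c E) = 1 := fun {E} hE => by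
    rw [← PowerSeries.coeff_zero_eq_constantCoeff_apply]
    exact hc hE (isExtPow_zero E)
  have hu : ∀ E, IsUnit (c E) := fun E => by
    by_cases hE : FlatMod.IsFinLocFree E
    · rw [PowerSeries.isUnit_iff_constantCoeff, hc0 hE]; exact isUnit_one
    · simp only [c, dif_neg hE]; exact isUnit_one
  have hmul : ∀ S : ShortComplex X.Modules, S.ShortExact → P X S.X₁ → P X S.X₂ → P X S.X₃ →
      Additive.ofMul (hu S.X₂).unit = Additive.ofMul (hu S.X₁).unit + Additive.ofMul (hu S.X₃).unit := by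
    intro S hS h₁ h₂ h₃
    refine congrArg Additive.ofMul (Units.ext ?_)
    show c S.X₂ = c S.X₁ * c S.X₃
    refine PowerSeries.ext fun n => ?_
    rw [PowerSeries.coeff_mul, Finset.Nat.sum_antidiagonal_eq_sum_range_succ_mk]
    simp only [c, dif_pos h₁, dif_pos h₂, dif_pos h₃, PowerSeries.coeff_mk]
    refine (class_eq (fam hext h₁) (fam hext h₂) (fam hext h₃) hS h₁ h₂ h₃ n).trans
      (Finset.sum_congr rfl fun i _ => ?_)
    exact (mul_cl ((fam hext h₁).free i) ((fam hext h₃).free _)).symm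
  let Φ : SGA6.Kvb X →+ Additive (PowerSeries (SGA6.Kvb X))ˣ :=
    KRes.KSub.lift (P := P X) (fun E => Additive.ofMul (hu E).unit) hmul
  let s : SGA6.Kvb X → PowerSeries (SGA6.Kvb X) := fun x => (Additive.toMul (Φ x) : (PowerSeries (SGA6.Kvb X))ˣ)
  have hsadd : ∀ x y, s (x + y) = s x * s y := fun x y => by
    simp only [s, map_add, toMul_add, Units.val_mul]
  have hs : ∀ {E : X.Modules}, FlatMod.IsFinLocFree E → s (cl E) = c E := fun {E} hE => by
    simp only [s, Φ]
    rw [KRes.KSub.lift_cl _ _ hE]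
    rfl
  have hs0 : ∀ x, PowerSeries.constantCoeff (s x) = 1 := by
    have h : ((Units.map (PowerSeries.constantCoeff (R := SGA6.Kvb X)).toMonoidHom).toAdditive.comp Φ) = 0 :=
      KRes.KSub.hom_ext fun E hE => by
        refine congrArg Additive.ofMul (Units.ext ?_)
        show PowerSeries.constantCoeff (s (cl E)) = 1
        rw [hs hE, hc0 hE]
    intro x
    exact congrArg (fun u => ((Additive.toMul u : (SGA6.Kvb X)ˣ) : SGA6.Kvb X)) (DFunLike.congr_fun h x)
  have hs1 : ∀ x, PowerSeries.coeff 1 (s x) = x := by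
    let g : SGA6.Kvb X →+ SGA6.Kvb X := AddMonoidHom.mk' (fun x => PowerSeries.coeff 1 (s x)) fun x y => by
      simp only [hsadd, PowerSeries.coeff_one_mul, hs0]
      simp only [mul_one]
    have h : g = AddMonoidHom.id _ := KRes.KSub.hom_ext fun E hE => by
      show PowerSeries.coeff 1 (s (cl E)) = cl E
      rw [hs hE]
      exact hc hE (isExtPow_one E)
    exact DFunLike.congr_fun h
  refine ⟨fun i x => PowerSeries.coeff i (s x), mul_comm', mul_assoc', mul_one',
    fun E F hE hF => mul_cl hE hF, fun i E L hE h => ?_, fun x => ?_, hs1, fun k x y => ?_⟩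
  · show PowerSeries.coeff i (s (cl E)) = cl L
    rw [hs hE]
    exact hc hE h
  · show PowerSeries.coeff 0 (s x) = _
    rw [PowerSeries.coeff_zero_eq_constantCoeff_apply]
    exact hs0 x
  · show PowerSeries.coeff k (s (x + y)) = _
    rw [hsadd, PowerSeries.coeff_mul, Finset.Nat.sum_antidiagonal_eq_sum_range_succ_mk]
    rfl

include hext in
theorem exists_structure : ∃ (mul : SGA6.Kvb X →+ SGA6.Kvb X →+ SGA6.Kvb X)
    (lam : ℕ → SGA6.Kvb X → SGA6.Kvb X), SGA6.IsLambdaStructureVb X mul lam :=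
  ⟨mul X, exists_lam hext⟩

end Groth.Agent.Lib.ExtFilt.Lambda
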