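import Groth.Agent.Lib.ExtFilt.Algebra
import Groth.Agent.Lib.Modules.AffineHom
import Groth.Agent.Lib.Modules.AffineSections
import Groth.Agent.Lib.Modules.TensorAffine
import Groth.Agent.Lib.Modules.LocalSections
import Groth.Agent.Lib.ClSub.Basis
import Groth.Agent.Lib.QCoh.Closure
import Groth.Agent.Lib.TensorMod.LocFree
import Groth.Agent.Lib.GrassGen.ExtPowFree
import Groth.Prelude.Def_ExtPow2

/-!
# The filtration of the exterior powers of an extension of vector bundles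
-/

set_option autoImplicit false
set_option linter.style.haveILetI false
universe u

open CategoryTheory CategoryTheory.Limits AlgebraicGeometry Opposite TopologicalSpace
open scoped TensorProduct

noncomputable section

namespace Groth.Agent.Lib.ExtFilt.Sheaf

open Groth.Agent.Lib Modules.TensorSec
open Groth.Agent.Lib.TensorMod.Dual (rs rf rs_smul rs_rs rs_self)
open Groth.Agent.Lib.TensorMod.Basic (tmap)
open Groth.Agent.Lib.CohBasics.Affine (secₗ)

variable {X : Scheme.{u}}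

/-- A family of exterior powers. -/
structure Fam (E : X.Modules) where
  /-- the modules -/
  L : ℕ → X.Modules
  free : ∀ i, FlatMod.IsFinLocFree (L i)
  /-- the identifications -/
  φ : ∀ (i : ℕ) (U : X.affineOpens), Γ(L i, U.1) ≃ₗ[Γ(X, U.1)] ↥(⋀[Γ(X, U.1)]^i Γ(E, U.1))
  compat : ∀ (i : ℕ) (U V : X.affineOpens) (h : V.1 ≤ U.1) (e : Fin i → Γ(E, U.1)),
    rs (L i) h ((φ i U).symm (exteriorPower.ιMulti _ i e)) =
      (φ i V).symm (exteriorPower.ιMulti _ i fun k => rs E h (e k))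

theorem qcoh {E : X.Modules} (F : Fam E) (i : ℕ) : (F.L i).IsQuasicoherent :=
  Modules.AffineSections.isQCoh_of_isFinLocFree (F.free i)

theorem sec_induction {E : X.Modules} (F : Fam E) {i : ℕ} {U : X.affineOpens}
    {P : Γ(F.L i, U.1) → Prop} (gen : ∀ e, P ((F.φ i U).symm (exteriorPower.ιMulti _ i e)))
    (zero : P 0) (add : ∀ a b, P a → P b → P (a + b)) (smul : ∀ (c : Γ(X, U.1)) a, P a → P (c • a))
    (s : Γ(F.L i, U.1)) : P s := by
  obtain ⟨t, rfl⟩ := (F.φ i U).symm.surjective s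
  have ht : t ∈ Submodule.span Γ(X, U.1)
      (Set.range (exteriorPower.ιMulti Γ(X, U.1) i (M := Γ(E, U.1)))) := by
    rw [exteriorPower.ιMulti_span]; trivial
  induction ht using Submodule.span_induction with
  | mem t ht => obtain ⟨e, rfl⟩ := ht; exact gen e
  | zero => rwa [map_zero]
  | add a b _ _ ha hb => rw [map_add]; exact add _ _ ha hb
  | smul c a _ ha => rw [map_smul]; exact smul c _ ha

variable {A B C : X.Modules} (FA : Fam A) (FB : Fam B) (FC : Fam C) (f : A ⟶ B) (g : B ⟶ C)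
  {i j n : ℕ}

/-- Sections of the tensor product over an affine open. -/
def γ (M N : X.Modules) [M.IsQuasicoherent] [N.IsQuasicoherent] (U : X.affineOpens) :
    Γ(M, U.1) ⊗[Γ(X, U.1)] Γ(N, U.1) ≃ₗ[Γ(X, U.1)] Γ(CohB1.tensorMod M N, U.1) :=
  LinearEquiv.ofBijective (Modules.TensorAffine.gamma M N U.1) (Modules.TensorAffine.bijective_gamma U.2)

/-- The tensor of two exterior powers over an affine open. -/
def T {E F : X.Modules} (P : Fam E) (Q : Fam F) (i j : ℕ) (U : X.affineOpens) :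
    Γ(CohB1.tensorMod (P.L i) (Q.L j), U.1) ≃ₗ[Γ(X, U.1)]
      (⋀[Γ(X, U.1)]^i Γ(E, U.1)) ⊗[Γ(X, U.1)] (⋀[Γ(X, U.1)]^j Γ(F, U.1)) :=
  haveI := qcoh P i
  haveI := qcoh Q j
  (γ (P.L i) (Q.L j) U).symm.trans (TensorProduct.congr (P.φ i U) (Q.φ j U))

theorem T_tens {E F : X.Modules} (P : Fam E) (Q : Fam F) (U : X.affineOpens) (p : Γ(P.L i, U.1))
    (q : Γ(Q.L j, U.1)) : T P Q i j U (tens p q) = P.φ i U p ⊗ₜ Q.φ j U q := by
  haveI := qcoh P i
  haveI := qcoh Q j
  have h : (γ (P.L i) (Q.L j) U).symm (tens p q) = p ⊗ₜ q := by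
    rw [LinearEquiv.symm_apply_eq]
    exact (Modules.TensorAffine.gamma_tmul p q).symm
  simp only [T, LinearEquiv.trans_apply, h, TensorProduct.congr_tmul]

theorem tens_induction {E F : X.Modules} (P : Fam E) (Q : Fam F) {U : X.affineOpens}
    {R : Γ(CohB1.tensorMod (P.L i) (Q.L j), U.1) → Prop}
    (gen : ∀ a b, R (tens ((P.φ i U).symm (exteriorPower.ιMulti _ i a))
      ((Q.φ j U).symm (exteriorPower.ιMulti _ j b))))
    (zero : R 0) (add : ∀ a b, R a → R b → R (a + b)) (smul : ∀ (c : Γ(X, U.1)) a, R a → R (c • a))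
    (s : Γ(CohB1.tensorMod (P.L i) (Q.L j), U.1)) : R s := by
  haveI := qcoh P i
  haveI := qcoh Q j
  obtain ⟨t, rfl⟩ := (γ (P.L i) (Q.L j) U).surjective s
  induction t using TensorProduct.induction_on with
  | zero => rwa [map_zero]
  | add a b ha hb => rw [map_add]; exact add _ _ ha hb
  | tmul p q =>
    show R (tens p q)
    induction p using sec_induction P with
    | gen a =>
      induction q using sec_induction Q with
      | gen b => exact gen a b
      | zero => rwa [tens_zero_right]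
      | add x y hx hy => rw [tens_add_right]; exact add _ _ hx hy
      | smul c x hx => rw [tens_smul_right]; exact smul c _ hx
    | zero => rwa [tens_zero_left]
    | add x y hx hy => rw [tens_add_left]; exact add _ _ hx hy
    | smul c x hx => rw [tens_smul_left]; exact smul c _ hx

/-- The product on affine opens. -/
def muVal (h : i + j = n) (U : X.affineOpens) :
    Γ(CohB1.tensorMod (FA.L i) (FB.L j), U.1) →ₗ[Γ(X, U.1)] Γ(FB.L n, U.1) :=
  (FB.φ n U).symm.toLinearMap ∘ₗ Algebra.mu h (secₗ f U.1) ∘ₗ (T FA FB i j U).toLinearMap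

theorem muVal_gen (h : i + j = n) (U : X.affineOpens) (a : Fin i → Γ(A, U.1)) (b : Fin j → Γ(B, U.1)) :
    muVal FA FB f h U (tens ((FA.φ i U).symm (exteriorPower.ιMulti _ i a))
      ((FB.φ j U).symm (exteriorPower.ιMulti _ j b))) =
      (FB.φ n U).symm (exteriorPower.ιMulti _ n (Fin.append (secₗ f U.1 ∘ a) b ∘ Fin.cast h.symm)) := by
  simp only [muVal, LinearMap.comp_apply, LinearEquiv.coe_coe, T_tens, LinearEquiv.apply_symm_apply,
    Algebra.mu_ιMulti]

theorem exists_mu (h : i + j = n) : ∃ μ : CohB1.tensorMod (FA.L i) (FB.L j) ⟶ FB.L n,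
    ∀ (U : X.affineOpens) (s), μ.app U.1 s = muVal FA FB f h U s := by
  refine Modules.AffineHom.exists_hom_of_affine (muVal FA FB f h) fun U V hVU s => ?_
  induction s using tens_induction FA FB with
  | gen a b =>
    rw [muVal_gen, rs_tens, FA.compat, FB.compat, FB.compat, muVal_gen]
    congr 2
    funext k
    simp only [Function.comp_apply]
    refine Fin.addCases (fun l => ?_) (fun l => ?_) (Fin.cast h.symm k)
    · simp only [Fin.append_left, Function.comp_apply, CohBasics.Affine.secₗ_apply]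
      exact (app_rs f hVU _).symm
    · simp only [Fin.append_right]
  | zero => simp only [map_zero]
  | add a b ha hb => simp only [map_add, ha, hb]
  | smul c a ha => simp only [map_smul, rs_smul, ha]

/-- The product. -/
def muHom (h : i + j = n) : CohB1.tensorMod (FA.L i) (FB.L j) ⟶ FB.L n := (exists_mu FA FB f h).choose

theorem muHom_app (h : i + j = n) (U : X.affineOpens) (s : Γ(CohB1.tensorMod (FA.L i) (FB.L j), U.1)) :
    (muHom FA FB f h).app U.1 s = (FB.φ n U).symm (Algebra.mu h (secₗ f U.1) (T FA FB i j U s)) :=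
  (exists_mu FA FB f h).choose_spec U s

/-- The induced map on affine opens. -/
def piVal (j : ℕ) (U : X.affineOpens) : Γ(FB.L j, U.1) →ₗ[Γ(X, U.1)] Γ(FC.L j, U.1) :=
  (FC.φ j U).symm.toLinearMap ∘ₗ exteriorPower.map j (secₗ g U.1) ∘ₗ (FB.φ j U).toLinearMap

theorem exists_pi (j : ℕ) : ∃ π : FB.L j ⟶ FC.L j,
    ∀ (U : X.affineOpens) (s), π.app U.1 s = piVal FB FC g j U s := by
  refine Modules.AffineHom.exists_hom_of_affine (piVal FB FC g j) fun U V hVU s => ?_
  induction s using sec_induction FB with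
  | gen e =>
    simp only [piVal, LinearMap.comp_apply, LinearEquiv.coe_coe, LinearEquiv.apply_symm_apply,
      exteriorPower.map_apply_ιMulti, FB.compat]
    refine (FC.compat j U V hVU _).trans ?_
    congr 2
    funext k
    exact (app_rs g hVU _).symm
  | zero => simp only [map_zero]
  | add a b ha hb => simp only [map_add, ha, hb]
  | smul c a ha => simp only [map_smul, rs_smul, ha]

/-- The map induced on `j`-th powers. -/
def piHom (j : ℕ) : FB.L j ⟶ FC.L j := (exists_pi FB FC g j).choose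

/-- The projection to the graded piece. -/
def qHom (i j : ℕ) : CohB1.tensorMod (FA.L i) (FB.L j) ⟶ CohB1.tensorMod (FA.L i) (FC.L j) :=
  tmap (𝟙 _) (piHom FB FC g j)

theorem T_qHom (i j : ℕ) (U : X.affineOpens) (s : Γ(CohB1.tensorMod (FA.L i) (FB.L j), U.1)) :
    T FA FC i j U ((qHom FA FB FC g i j).app U.1 s) =
      LinearMap.lTensor _ (exteriorPower.map j (secₗ g U.1)) (T FA FB i j U s) := by
  induction s using tens_induction FA FB with
  | gen a b =>
    rw [qHom, tmap_tens, T_tens, T_tens, LinearMap.lTensor_tmul, Scheme.Modules.Hom.id_app, ConcreteCategory.id_apply]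
    rw [show (piHom FB FC g j).app U.1 _ = _ from (exists_pi FB FC g j).choose_spec U _]
    simp only [piVal, LinearMap.comp_apply, LinearEquiv.coe_coe, LinearEquiv.apply_symm_apply]
  | zero => simp only [map_zero]
  | add a b ha hb => simp only [map_add, ha, hb]
  | smul c a ha => simp only [Scheme.Modules.Hom.app_smul, map_smul, ha]

variable {S : ShortComplex X.Modules}

/-- Splittings over affine opens. -/
theorem exists_split (hS : S.ShortExact) (h₁ : FlatMod.IsFinLocFree S.X₁) (h₂ : FlatMod.IsFinLocFree S.X₂)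
    (h₃ : FlatMod.IsFinLocFree S.X₃) (U : X.affineOpens) :
    ∃ (r : Γ(S.X₂, U.1) →ₗ[Γ(X, U.1)] Γ(S.X₁, U.1)) (σ : Γ(S.X₃, U.1) →ₗ[Γ(X, U.1)] Γ(S.X₂, U.1)),
      (∀ a, secₗ S.g U.1 (secₗ S.f U.1 a) = 0) ∧ (∀ a, r (secₗ S.f U.1 a) = a) ∧
      (∀ c, secₗ S.g U.1 (σ c) = c) ∧ ∀ b, b - σ (secₗ S.g U.1 b) = secₗ S.f U.1 (r b) := by
  haveI := Modules.AffineSections.isQCoh_of_isFinLocFree h₁
  haveI := Modules.AffineSections.isQCoh_of_isFinLocFree h₃
  haveI := hS.mono_f
  haveI : Module.Projective Γ(X, U.1) Γ(S.X₃, U.1) :=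
    (Modules.AffineSections.finite_projective_sections h₃ U.2).2
  have hsurj : Function.Surjective (secₗ S.g U.1) := QCoh.Closure.sections_surjective hS U.2
  obtain ⟨σ, hσ⟩ := Module.projective_lifting_property (secₗ S.g U.1) LinearMap.id hsurj
  have hσ' : ∀ c, secₗ S.g U.1 (σ c) = c := fun c => LinearMap.congr_fun hσ c
  have hgf : ∀ a, secₗ S.g U.1 (secₗ S.f U.1 a) = 0 := fun a => QCoh.Closure.sections_comp U.1 a
  have hinj : Function.Injective (secₗ S.f U.1) := QCoh.Closure.sections_injective_of_mono S.f U.1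
  have hr : ∀ b, ∃ a, secₗ S.f U.1 a = b - σ (secₗ S.g U.1 b) := fun b =>
    QCoh.Closure.sections_exact hS.exact U.1 _ (by
      show secₗ S.g U.1 (b - σ (secₗ S.g U.1 b)) = 0
      rw [map_sub, hσ', sub_self])
  choose r hr using hr
  refine ⟨{ toFun := r, map_add' := fun a b => hinj ?_, map_smul' := fun c a => hinj ?_ }, σ,
    hgf, fun a => hinj ?_, hσ', fun b => (hr b).symm⟩
  · rw [map_add, hr, hr, hr, map_add, map_add]; abel
  · rw [map_smul, hr, RingHom.id_apply, hr, map_smul, map_smul, smul_sub]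
  · show secₗ S.f U.1 (r _) = _
    rw [hr, hgf, map_zero, sub_zero]

variable (F₁ : Fam S.X₁) (F₂ : Fam S.X₂) (F₃ : Fam S.X₃) (hS : S.ShortExact)
  (h₁ : FlatMod.IsFinLocFree S.X₁) (h₂ : FlatMod.IsFinLocFree S.X₂) (h₃ : FlatMod.IsFinLocFree S.X₃)

include hS h₁ h₂ h₃ in
theorem qHom_surjective (i j : ℕ) (U : X.affineOpens) :
    Function.Surjective ((qHom F₁ F₂ F₃ S.g i j).app U.1) := fun s => by
  obtain ⟨r, σ, -, -, hσ, -⟩ := exists_split hS h₁ h₂ h₃ U
  refine ⟨(T F₁ F₂ i j U).symm (LinearMap.lTensor _ (exteriorPower.map j σ) (T F₁ F₃ i j U s)),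
    (T F₁ F₃ i j U).injective ?_⟩
  rw [T_qHom, LinearEquiv.apply_symm_apply, ← LinearMap.comp_apply, ← LinearMap.lTensor_comp,
    ← exteriorPower.map_comp, show secₗ S.g U.1 ∘ₗ σ = LinearMap.id from LinearMap.ext hσ,
    exteriorPower.map_id, LinearMap.lTensor_id]
  rfl

include hS h₁ h₂ h₃ in
theorem muHom_sub_mem {i j n : ℕ} (h : i + (j + 1) = n) (h' : i + 1 + j = n) (U : X.affineOpens)
    (s : Γ(CohB1.tensorMod (F₁.L i) (F₂.L (j + 1)), U.1))
    (hs : (qHom F₁ F₂ F₃ S.g i (j + 1)).app U.1 s = 0) :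
    ∃ t, (muHom F₁ F₂ S.f h).app U.1 s = (muHom F₁ F₂ S.f h').app U.1 t := by
  obtain ⟨r, σ, -, -, -, hfr⟩ := exists_split hS h₁ h₂ h₃ U
  obtain ⟨t, ht⟩ := Algebra.mu_sub_mem h h' (secₗ S.f U.1) (σ ∘ₗ secₗ S.g U.1)
    (fun b => ⟨r b, (hfr b).symm⟩) (T F₁ F₂ i (j + 1) U s)
  have h0 : LinearMap.lTensor (⋀[Γ(X, U.1)]^i Γ(S.X₁, U.1)) (exteriorPower.map (j + 1) (σ ∘ₗ secₗ S.g U.1))
      (T F₁ F₂ i (j + 1) U s) = 0 := by
    rw [exteriorPower.map_comp, LinearMap.lTensor_comp, LinearMap.comp_apply, ← T_qHom F₁ F₂ F₃, hs,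
      map_zero, map_zero]
  refine ⟨(T F₁ F₂ (i + 1) j U).symm t, ?_⟩
  rw [h0, map_zero, sub_zero] at ht
  rw [muHom_app, muHom_app, LinearEquiv.apply_symm_apply, ht]

include hS h₁ h₂ h₃ in
theorem qHom_zero_injective (i : ℕ) (U : X.affineOpens) (s : Γ(CohB1.tensorMod (F₁.L i) (F₂.L 0), U.1))
    (hs : (qHom F₁ F₂ F₃ S.g i 0).app U.1 s = 0) : s = 0 := by
  obtain ⟨r, σ, -, -, -, -⟩ := exists_split hS h₁ h₂ h₃ U
  have hid : exteriorPower.map 0 (σ ∘ₗ secₗ S.g U.1) = LinearMap.id := by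
    refine exteriorPower.linearMap_ext ?_
    ext e
    simp only [LinearMap.compAlternatingMap_apply, exteriorPower.map_apply_ιMulti, LinearMap.id_apply]
    exact congrArg (fun v : Fin 0 → Γ(S.X₂, U.1) => (exteriorPower.ιMulti Γ(X, U.1) 0 v).1) (funext fun k => Fin.elim0 k)
  refine (T F₁ F₂ i 0 U).injective ?_
  rw [map_zero]
  calc T F₁ F₂ i 0 U s
      = LinearMap.lTensor _ (exteriorPower.map 0 (σ ∘ₗ secₗ S.g U.1)) (T F₁ F₂ i 0 U s) := by
        rw [hid, LinearMap.lTensor_id]; rfl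
    _ = 0 := by
        rw [exteriorPower.map_comp, LinearMap.lTensor_comp, LinearMap.comp_apply, ← T_qHom F₁ F₂ F₃, hs,
          map_zero, map_zero]

include hS h₁ h₂ h₃ in
theorem qHom_eq_zero_of_muHom_eq {i j n : ℕ} (h : i + j = n) (U : X.affineOpens)
    (s : Γ(CohB1.tensorMod (F₁.L i) (F₂.L j), U.1)) {j' : ℕ} (h' : i + 1 + j' = n)
    (t : Γ(CohB1.tensorMod (F₁.L (i + 1)) (F₂.L j'), U.1))
    (e : (muHom F₁ F₂ S.f h).app U.1 s = (muHom F₁ F₂ S.f h').app U.1 t) :
    (qHom F₁ F₂ F₃ S.g i j).app U.1 s = 0 := by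
  obtain ⟨r, σ, hgf, hrf, -, -⟩ := exists_split hS h₁ h₂ h₃ U
  rw [muHom_app, muHom_app] at e
  have e' := congrArg (Algebra.nu (secₗ S.g U.1) r i j n) ((F₂.φ n U).symm.injective e)
  rw [Algebra.nu_mu hrf hgf h, Algebra.nu_mu_succ hrf hgf h'] at e'
  refine (T F₁ F₃ i j U).injective ?_
  rw [T_qHom, e', map_zero]

include hS h₁ h₂ h₃ in
theorem qHom_eq_zero_of_muHom_zero {i j n : ℕ} (h : i + j = n) (U : X.affineOpens)
    (s : Γ(CohB1.tensorMod (F₁.L i) (F₂.L j), U.1)) (e : (muHom F₁ F₂ S.f h).app U.1 s = 0) :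
    (qHom F₁ F₂ F₃ S.g i j).app U.1 s = 0 := by
  obtain ⟨r, σ, hgf, hrf, -, -⟩ := exists_split hS h₁ h₂ h₃ U
  rw [muHom_app, LinearEquiv.map_eq_zero_iff] at e
  have e' := congrArg (Algebra.nu (secₗ S.g U.1) r i j n) e
  rw [Algebra.nu_mu hrf hgf h, map_zero] at e'
  refine (T F₁ F₃ i j U).injective ?_
  rw [T_qHom, e', map_zero]

theorem muHom_comp_cokernel {i j n : ℕ} (h : i + 1 + j = n) (h' : i + (j + 1) = n) :
    muHom FA FB f h ≫ cokernel.π (muHom FA FB f h') = 0 := by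
  refine Modules.AffineHom.hom_ext_affine fun U s => ?_
  obtain ⟨t, ht⟩ := Algebra.range_mu_succ_le h h' (secₗ f U.1) ⟨T FA FB (i + 1) j U s, rfl⟩
  have e : (muHom FA FB f h).app U.1 s = (muHom FA FB f h').app U.1 ((T FA FB i (j + 1) U).symm t) := by
    rw [muHom_app, muHom_app, LinearEquiv.apply_symm_apply, ht]
  rw [Scheme.Modules.Hom.comp_app, ConcreteCategory.comp_apply, e]
  exact congr(($(cokernel.condition (muHom FA FB f h'))).app U.1 ((T FA FB i (j + 1) U).symm t))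

theorem epi_muHom_zero {n : ℕ} (h : 0 + n = n) : Epi (muHom FA FB f h) :=
  Groth.Agent.Lib.ClSub.Basis.epi_of_surjective_affine _ fun U s => by
    obtain ⟨t, ht⟩ := Algebra.mu_zero_surjective h (secₗ f U.1) (FB.φ n U s)
    exact ⟨(T FA FB 0 n U).symm t, by rw [muHom_app, LinearEquiv.apply_symm_apply, ht, LinearEquiv.symm_apply_apply]⟩

include hS h₁ h₂ h₃ in
/-- One step of the filtration. -/
theorem exists_step {i j n : ℕ} (h : i + j = n) {Q : X.Modules} (c : F₂.L n ⟶ Q) [Epi c]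
    (t : Q ⟶ cokernel (muHom F₁ F₂ S.f h)) (ht : c ≫ t = cokernel.π _)
    (hkill : ∀ (U : X.affineOpens) (s), (qHom F₁ F₂ F₃ S.g i j).app U.1 s = 0 →
      c.app U.1 ((muHom F₁ F₂ S.f h).app U.1 s) = 0)
    (hinj : ∀ (U : X.affineOpens) (s), c.app U.1 ((muHom F₁ F₂ S.f h).app U.1 s) = 0 →
      (qHom F₁ F₂ F₃ S.g i j).app U.1 s = 0) :
    ∃ T : ShortComplex X.Modules, T.ShortExact ∧ T.X₁ = CohB1.tensorMod (F₁.L i) (F₃.L j) ∧ T.X₂ = Q ∧
      T.X₃ = cokernel (muHom F₁ F₂ S.f h) := by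
  let μ := muHom F₁ F₂ S.f h
  let q := qHom F₁ F₂ F₃ S.g i j
  haveI : Epi q := Groth.Agent.Lib.ClSub.Basis.epi_of_surjective_affine q
    fun U => qHom_surjective F₁ F₂ F₃ hS h₁ h₂ h₃ i j U
  have hk : kernel.ι q ≫ μ ≫ c = 0 := Modules.AffineHom.hom_ext_affine fun U s => by
    exact hkill U _ congr(($(kernel.condition q)).app U.1 s)
  let ψ := Abelian.epiDesc q (μ ≫ c) hk
  have hψ : q ≫ ψ = μ ≫ c := Abelian.comp_epiDesc q _ _
  haveI : Mono ψ := Modules.LocalSections.mono_of_local fun V m hm x hx => by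
    obtain ⟨U, hUV, hxU⟩ := Modules.AffineHom.exists_affine hx
    obtain ⟨s, hs⟩ := qHom_surjective F₁ F₂ F₃ hS h₁ h₂ h₃ i j U (rs _ hUV m)
    refine ⟨U.1, hUV, hxU, hs.symm.trans (hinj U s ?_)⟩
    refine (congr(($hψ).app U.1 s)).symm.trans ?_
    show ψ.app U.1 (q.app U.1 s) = 0
    rw [show q.app U.1 s = rs _ hUV m from hs, app_rs, hm, rs_zero]
  haveI : Epi t := epi_of_epi_fac ht
  have w : ψ ≫ t = 0 := by
    rw [← cancel_epi q, reassoc_of% hψ, ht, comp_zero]
    exact cokernel.condition μ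
  refine ⟨ShortComplex.mk ψ t w, ⟨ShortComplex.exact_of_g_is_cokernel _ ?_⟩, rfl, rfl, rfl⟩
  refine CokernelCofork.IsColimit.ofπ t w
    (fun g hg => cokernel.desc μ (c ≫ g) (by rw [← Category.assoc, ← hψ, Category.assoc, hg, comp_zero]))
    (fun g hg => ?_) fun g hg m hm => ?_
  · rw [← cancel_epi c, reassoc_of% ht]
    exact cokernel.π_desc _ _ _
  · rw [← cancel_epi (cokernel.π μ), cokernel.π_desc, ← hm, reassoc_of% ht]

/-- Extensions of finite locally free modules are finite locally free. -/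
theorem isFinLocFree_extension {T : ShortComplex X.Modules} (hT : T.ShortExact)
    (hT₁ : FlatMod.IsFinLocFree T.X₁) (hT₃ : FlatMod.IsFinLocFree T.X₃) : FlatMod.IsFinLocFree T.X₂ := by
  haveI := Modules.AffineSections.isQCoh_of_isFinLocFree hT₁
  haveI := Modules.AffineSections.isQCoh_of_isFinLocFree hT₃
  haveI := hT.mono_f
  haveI : T.X₂.IsQuasicoherent := QCoh.Closure.isQCoh_of_extension hT
  refine Modules.AffineSections.isFinLocFree_of_sections fun x => ?_
  obtain ⟨U, -, hxU⟩ := Modules.AffineHom.exists_affine (show x ∈ (⊤ : X.Opens) from trivial)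
  refine ⟨U.1, U.2, hxU, ?_⟩
  obtain ⟨hf1, hp1⟩ := Modules.AffineSections.finite_projective_sections hT₁ U.2
  obtain ⟨hf3, hp3⟩ := Modules.AffineSections.finite_projective_sections hT₃ U.2
  have hsurj : Function.Surjective (secₗ T.g U.1) := QCoh.Closure.sections_surjective hT U.2
  obtain ⟨σ, hσ⟩ := Module.projective_lifting_property (secₗ T.g U.1) LinearMap.id hsurj
  let e : (Γ(T.X₁, U.1) × Γ(T.X₃, U.1)) →ₗ[Γ(X, U.1)] Γ(T.X₂, U.1) := (secₗ T.f U.1).coprod σ
  have he : Function.Bijective e := by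
    refine ⟨(injective_iff_map_eq_zero _).2 fun z hz => ?_, fun b => ?_⟩
    · have h2 : z.2 = 0 := by
        have := congrArg (secₗ T.g U.1) hz
        rw [LinearMap.coprod_apply, map_add, show secₗ T.g U.1 (secₗ T.f U.1 z.1) = 0 from
          QCoh.Closure.sections_comp U.1 z.1, zero_add, map_zero] at this
        exact (LinearMap.congr_fun hσ z.2).symm.trans this
      have h1 : z.1 = 0 := QCoh.Closure.sections_injective_of_mono T.f U.1 (by
        have := hz
        rw [LinearMap.coprod_apply, h2, map_zero, add_zero] at this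
        exact this.trans (map_zero _).symm)
      exact Prod.ext h1 h2
    · obtain ⟨a, ha⟩ := QCoh.Closure.sections_exact hT.exact U.1 (b - σ (secₗ T.g U.1 b)) (by
        show secₗ T.g U.1 (b - σ (secₗ T.g U.1 b)) = 0
        rw [map_sub]
        exact sub_eq_zero.2 (LinearMap.congr_fun hσ _).symm)
      exact ⟨(a, secₗ T.g U.1 b), by
        rw [LinearMap.coprod_apply, show secₗ T.f U.1 a = b - σ (secₗ T.g U.1 b) from ha, sub_add_cancel]⟩
  exact ⟨Module.Finite.of_surjective e he.2, Module.Projective.of_equiv (LinearEquiv.ofBijective e he)⟩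

end Groth.Agent.Lib.ExtFilt.Sheaf
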