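import Mathlib.LinearAlgebra.ExteriorPower.Basic
import Mathlib.LinearAlgebra.ExteriorAlgebra.Grading
import Mathlib.LinearAlgebra.TensorProduct.Graded.Internal
import Mathlib.RingTheory.GradedAlgebra.Basic

/-!
# The filtration of the exterior powers of a split extension
-/

set_option autoImplicit false
universe u

open scoped TensorProduct

noncomputable section

namespace Groth.Agent.Lib.ExtFilt.Algebra

open ExteriorAlgebra

variable {R : Type u} [CommRing R] {A B C : Type u} [AddCommGroup A] [Module R A] [AddCommGroup B]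
  [Module R B] [AddCommGroup C] [Module R C]

theorem coe_map (j : ℕ) (g : B →ₗ[R] C) (y : ⋀[R]^j B) :
    (↑(exteriorPower.map j g y) : ExteriorAlgebra R C) = ExteriorAlgebra.map g (y : ExteriorAlgebra R B) := by
  have h : (⋀[R]^j C).subtype ∘ₗ exteriorPower.map j g =
      (ExteriorAlgebra.map g).toLinearMap ∘ₗ (⋀[R]^j B).subtype := by
    refine exteriorPower.linearMap_ext ?_
    ext v
    simp only [LinearMap.compAlternatingMap_apply, LinearMap.comp_apply, Submodule.coe_subtype,
      exteriorPower.map_apply_ιMulti, exteriorPower.ιMulti_apply_coe, AlgHom.toLinearMap_apply]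
    exact (ExteriorAlgebra.map_apply_ιMulti g v).symm
  exact LinearMap.congr_fun h y

/-- The product `⋀^i A ⊗ ⋀^j B → ⋀^n B`. -/
def mu {i j n : ℕ} (h : i + j = n) (f : A →ₗ[R] B) : (⋀[R]^i A) ⊗[R] (⋀[R]^j B) →ₗ[R] ⋀[R]^n B :=
  TensorProduct.lift <| LinearMap.mk₂ R
    (fun a b => ⟨(↑(exteriorPower.map i f a) : ExteriorAlgebra R B) * ↑b,
      h ▸ SetLike.mul_mem_graded (A := fun k => ⋀[R]^k B) (exteriorPower.map i f a).2 b.2⟩)
    (fun a a' b => Subtype.ext (by simp [add_mul]))
    (fun c a b => Subtype.ext (by simp))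
    (fun a b b' => Subtype.ext (by simp [mul_add]))
    (fun c a b => Subtype.ext (by simp))

theorem coe_mu {i j n : ℕ} (h : i + j = n) (f : A →ₗ[R] B) (a : ⋀[R]^i A) (b : ⋀[R]^j B) :
    (↑(mu h f (a ⊗ₜ b)) : ExteriorAlgebra R B) = ExteriorAlgebra.map f (a : ExteriorAlgebra R A) * ↑b := by
  rw [← coe_map]
  rfl

theorem mu_ιMulti {i j n : ℕ} (h : i + j = n) (f : A →ₗ[R] B) (a : Fin i → A) (b : Fin j → B) :
    mu h f (exteriorPower.ιMulti R i a ⊗ₜ exteriorPower.ιMulti R j b) =
      exteriorPower.ιMulti R n (Fin.append (f ∘ a) b ∘ Fin.cast h.symm) := by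
  subst h
  refine Subtype.ext ((coe_mu rfl f _ _).trans ?_)
  simp only [exteriorPower.ιMulti_apply_coe, ExteriorAlgebra.map_apply_ιMulti]
  rw [ExteriorAlgebra.ιMulti_apply, ExteriorAlgebra.ιMulti_apply, ExteriorAlgebra.ιMulti_apply,
    ← List.prod_append, ← List.ofFn_fin_append]
  congr 1
  refine congrArg List.ofFn (funext fun k => ?_)
  refine Fin.addCases (fun l => ?_) (fun l => ?_) k <;> simp

theorem mu_zero_surjective {n : ℕ} (h : 0 + n = n) (f : A →ₗ[R] B) : Function.Surjective (mu h f) :=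
  fun z => ⟨exteriorPower.ιMulti R 0 ![] ⊗ₜ z, Subtype.ext (by
    rw [coe_mu, exteriorPower.ιMulti_apply_coe, ExteriorAlgebra.ιMulti_zero_apply, map_one, one_mul])⟩

theorem range_mu_succ_le {i j n : ℕ} (h : i + 1 + j = n) (h' : i + (j + 1) = n) (f : A →ₗ[R] B) :
    LinearMap.range (mu h f) ≤ LinearMap.range (mu h' f) := by
  rintro _ ⟨t, rfl⟩
  induction t using TensorProduct.induction_on with
  | zero => simp
  | add x y hx hy => rw [map_add]; exact add_mem hx hy
  | tmul a b =>
    have key : ∀ (z : ExteriorAlgebra R A) (hz : z ∈ ⋀[R]^(i + 1) A),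
        mu h f ((⟨z, hz⟩ : ⋀[R]^(i + 1) A) ⊗ₜ b) ∈ LinearMap.range (mu h' f) := by
      intro z hz
      have hz' : z ∈ (⋀[R]^i A) * LinearMap.range (ι R : A →ₗ[R] _) := by
        rwa [ExteriorAlgebra.exteriorPower, pow_succ] at hz
      induction hz' using Submodule.mul_induction_on' with
      | mem_mul_mem p hp q hq =>
        obtain ⟨v, rfl⟩ := hq
        have hb : ι R (f v) * (b : ExteriorAlgebra R B) ∈ ⋀[R]^(j + 1) B := by
          rw [ExteriorAlgebra.exteriorPower, pow_succ']
          exact Submodule.mul_mem_mul ⟨f v, rfl⟩ b.2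
        refine ⟨(⟨p, hp⟩ : ⋀[R]^i A) ⊗ₜ ⟨_, hb⟩, Subtype.ext ?_⟩
        rw [coe_mu, coe_mu, map_mul, ExteriorAlgebra.map_apply_ι, mul_assoc]
      | add p hp q hq ihp ihq =>
        have hp' : p ∈ ⋀[R]^(i + 1) A := by rwa [ExteriorAlgebra.exteriorPower, pow_succ]
        have hq' : q ∈ ⋀[R]^(i + 1) A := by rwa [ExteriorAlgebra.exteriorPower, pow_succ]
        have := add_mem (ihp hp') (ihq hq')
        rw [← map_add, ← TensorProduct.add_tmul] at this
        exact this
    exact key a.1 a.2

/-- The class of `a ∧ b` modulo the next step depends only on the image of `b`. -/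
theorem mu_sub_mem {i j n : ℕ} (h : i + (j + 1) = n) (h' : i + 1 + j = n) (f : A →ₗ[R] B)
    (g : B →ₗ[R] B) (hg : ∀ b, b - g b ∈ LinearMap.range f) (t : (⋀[R]^i A) ⊗[R] (⋀[R]^(j + 1) B)) :
    mu h f t - mu h f (LinearMap.lTensor _ (exteriorPower.map (j + 1) g) t) ∈ LinearMap.range (mu h' f) := by
  classical
  induction t using TensorProduct.induction_on with
  | zero => simp
  | add x y hx hy =>
    rw [map_add, map_add, map_add, add_sub_add_comm]
    exact add_mem hx hy
  | tmul a y =>
    let N := LinearMap.range (mu h' f)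
    let T : B [⋀^Fin (j + 1)]→ₗ[R] ((⋀[R]^n B) ⧸ N) :=
      (N.mkQ ∘ₗ mu h f ∘ₗ TensorProduct.mk R _ _ a).compAlternatingMap (exteriorPower.ιMulti R (j + 1))
    have hT : ∀ v, T v = N.mkQ (mu h f (a ⊗ₜ exteriorPower.ιMulti R (j + 1) v)) := fun _ => rfl
    have h0 : ∀ v, v 0 ∈ LinearMap.range f → T v = 0 := by
      rintro v ⟨w, hw⟩
      rw [hT, Submodule.mkQ_apply, Submodule.Quotient.mk_eq_zero]
      have ha : (a : ExteriorAlgebra R A) * ι R w ∈ ⋀[R]^(i + 1) A := by
        rw [ExteriorAlgebra.exteriorPower, pow_succ]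
        exact Submodule.mul_mem_mul a.2 ⟨w, rfl⟩
      refine ⟨(⟨_, ha⟩ : ⋀[R]^(i + 1) A) ⊗ₜ exteriorPower.ιMulti R j (Matrix.vecTail v), Subtype.ext ?_⟩
      rw [coe_mu, coe_mu, map_mul, ExteriorAlgebra.map_apply_ι, hw, mul_assoc]
      exact congrArg _ (ExteriorAlgebra.ιMulti_succ_apply v).symm
    have hvan : ∀ v k, v k ∈ LinearMap.range f → T v = 0 := by
      intro v k hk
      rcases eq_or_ne k 0 with rfl | hne
      · exact h0 v hk
      · have := h0 (v ∘ Equiv.swap 0 k) (by simpa using hk)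
        rwa [T.map_swap v (Ne.symm hne), neg_eq_zero] at this
    have hstep : ∀ (v : Fin (j + 1) → B) (s : Finset (Fin (j + 1))),
        T v = T (fun k => if k ∈ s then g (v k) else v k) := by
      intro v s
      induction s using Finset.induction_on with
      | empty => simp
      | insert k s hk ih =>
        rw [ih]
        set m : Fin (j + 1) → B := fun l => if l ∈ s then g (v l) else v l with hm
        have h2 : (fun l => if l ∈ insert k s then g (v l) else v l) = Function.update m k (g (v k)) := by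
          funext l
          rcases eq_or_ne l k with rfl | hl
          · simp
          · simp [m, hl]
        rw [h2]
        have h3 : m = Function.update m k (g (v k) + (v k - g (v k))) := by
          rw [add_sub_cancel, eq_comm, Function.update_eq_self_iff]
          simp [m, hk]
        conv_lhs => rw [h3, T.map_update_add]
        rw [hvan (Function.update m k (v k - g (v k))) k (by simpa using hg (v k)), add_zero]
    have hy : y ∈ Submodule.span R (Set.range (exteriorPower.ιMulti R (j + 1) (M := B))) := by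
      rw [exteriorPower.ιMulti_span]; trivial
    show mu h f (a ⊗ₜ y) - mu h f (a ⊗ₜ exteriorPower.map (j + 1) g y) ∈ N
    induction hy using Submodule.span_induction with
    | mem y hy =>
      obtain ⟨v, rfl⟩ := hy
      rw [exteriorPower.map_apply_ιMulti, ← Submodule.Quotient.mk_eq_zero, Submodule.Quotient.mk_sub,
        sub_eq_zero, ← Submodule.mkQ_apply, ← Submodule.mkQ_apply, ← hT, ← hT]
      refine (hstep v Finset.univ).trans (congrArg T (funext fun k => ?_))
      simp
    | zero => simp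
    | add p q _ _ hp hq =>
      rw [map_add, TensorProduct.tmul_add, TensorProduct.tmul_add, map_add, map_add, add_sub_add_comm]
      exact add_mem hp hq
    | smul c p _ hp =>
      rw [map_smul, TensorProduct.tmul_smul, TensorProduct.tmul_smul, map_smul, map_smul]
      convert N.smul_mem c hp using 1
      exact (smul_sub c _ _).symm

/-! ### The component of bidegree `(i, j)` -/

theorem algebraMapInv_eq_zero : ∀ (k : ℕ) (x : ExteriorAlgebra R A), x ∈ ⋀[R]^k A → k ≠ 0 →
    algebraMapInv (R := R) (M := A) x = 0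
  | 0, _, _, h => absurd rfl h
  | k + 1, x, hx, _ => by
    rw [ExteriorAlgebra.exteriorPower, pow_succ] at hx
    refine Submodule.mul_induction_on hx ?_ fun p q hp hq => by rw [map_add, hp, hq, add_zero]
    rintro p - _ ⟨v, rfl⟩
    rw [map_mul]
    simp [algebraMapInv]

theorem coe_decompose_zero (x : ExteriorAlgebra R A) :
    (DirectSum.decompose (fun k => ⋀[R]^k A) x 0 : ExteriorAlgebra R A) =
      algebraMap R _ (algebraMapInv (R := R) (M := A) x) := by
  induction x using ExteriorAlgebra.induction with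
  | algebraMap c =>
    rw [algebraMap_leftInverse A c]
    exact DirectSum.decompose_of_mem_same _ (SetLike.algebraMap_mem_graded (fun k => ⋀[R]^k A) c)
  | ι v =>
    rw [DirectSum.decompose_of_mem_ne (fun k => ⋀[R]^k A) (i := 1) (j := 0)
      (by rw [ExteriorAlgebra.exteriorPower, pow_one]; exact ⟨v, rfl⟩) one_ne_zero]
    simp [algebraMapInv]
  | mul a b ha hb =>
    have := map_mul (GradedRing.projZeroRingHom fun k => ⋀[R]^k A) a b
    simp only [GradedRing.projZeroRingHom_apply] at this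
    rw [this, ha, hb, map_mul, map_mul]
  | add a b ha hb => simp [DirectSum.decompose_add, ha, hb]

variable (f : A →ₗ[R] B) (p : B →ₗ[R] C) (r : B →ₗ[R] A)

/-- The graded tensor product of two exterior algebras. -/
abbrev GT (R : Type u) [CommRing R] (A C : Type u) [AddCommGroup A] [Module R A] [AddCommGroup C] [Module R C] :=
  (fun k => ⋀[R]^k A) ᵍ⊗[R] (fun k => ⋀[R]^k C)

/-- The comultiplication along the splitting. -/
def delta : ExteriorAlgebra R B →ₐ[R] GT R A C :=
  ExteriorAlgebra.lift R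
    ⟨((GradedTensorProduct.includeLeft (fun k => ⋀[R]^k A) (fun k => ⋀[R]^k C)).toLinearMap ∘ₗ ι R ∘ₗ r) +
      ((GradedTensorProduct.includeRight (fun k => ⋀[R]^k A) (fun k => ⋀[R]^k C)).toLinearMap ∘ₗ ι R ∘ₗ p),
    fun b => by
      simp only [LinearMap.add_apply, LinearMap.comp_apply, AlgHom.toLinearMap_apply, add_mul, mul_add,
        ← map_mul, ExteriorAlgebra.ι_sq_zero, map_zero, zero_add, add_zero]
      have h1 : ι R (r b) ∈ ⋀[R]^1 A := by rw [ExteriorAlgebra.exteriorPower, pow_one]; exact ⟨_, rfl⟩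
      have h2 : ι R (p b) ∈ ⋀[R]^1 C := by rw [ExteriorAlgebra.exteriorPower, pow_one]; exact ⟨_, rfl⟩
      rw [add_comm]
      show (ι R (r b) ᵍ⊗ₜ[R] (1 : ExteriorAlgebra R C) : GT R A C) * ((1 : ExteriorAlgebra R A) ᵍ⊗ₜ[R] ι R (p b)) +
        ((1 : ExteriorAlgebra R A) ᵍ⊗ₜ[R] ι R (p b) : GT R A C) * (ι R (r b) ᵍ⊗ₜ[R] (1 : ExteriorAlgebra R C)) = 0
      rw [GradedTensorProduct.tmul_one_mul_one_tmul,
        GradedTensorProduct.tmul_coe_mul_coe_tmul (fun k => ⋀[R]^k A) (fun k => ⋀[R]^k C)
          (1 : ExteriorAlgebra R A) ⟨_, h2⟩ ⟨_, h1⟩ (1 : ExteriorAlgebra R C)]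
      simp⟩

theorem delta_ι (b : B) : delta p r (ι R b) =
    GradedTensorProduct.includeLeft (fun k => ⋀[R]^k A) (fun k => ⋀[R]^k C) (ι R (r b)) +
      GradedTensorProduct.includeRight (fun k => ⋀[R]^k A) (fun k => ⋀[R]^k C) (ι R (p b)) :=
  ExteriorAlgebra.lift_ι_apply R _ _ b

/-- The augmentation of the left factor. -/
def eps : GT R A C →ₐ[R] ExteriorAlgebra R C :=
  GradedTensorProduct.lift (fun k => ⋀[R]^k A) (fun k => ⋀[R]^k C)
    ((Algebra.ofId R (ExteriorAlgebra R C)).comp algebraMapInv) (AlgHom.id R _) fun {i j} a b => by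
    simp only [AlgHom.comp_apply, AlgHom.id_apply, Algebra.ofId_apply]
    rcases eq_or_ne i 0 with rfl | hi
    · rw [mul_zero, uzpow_zero, one_smul]
      exact Algebra.commutes _ _
    · rw [algebraMapInv_eq_zero i _ a.2 hi, map_zero, mul_zero, zero_mul, smul_zero]

/-- The component of bidegree `(i, j)`. -/
def proj (i j : ℕ) : GT R A C →ₗ[R] (⋀[R]^i A) ⊗[R] (⋀[R]^j C) :=
  TensorProduct.map
      (DirectSum.component R ℕ _ i ∘ₗ (DirectSum.decomposeLinearEquiv fun k => ⋀[R]^k A).toLinearMap)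
      (DirectSum.component R ℕ _ j ∘ₗ (DirectSum.decomposeLinearEquiv fun k => ⋀[R]^k C).toLinearMap) ∘ₗ
    (GradedTensorProduct.of R (fun k => ⋀[R]^k A) (fun k => ⋀[R]^k C)).symm.toLinearMap

theorem proj_tmul (i j : ℕ) (x : ExteriorAlgebra R A) (y : ExteriorAlgebra R C) :
    proj i j (x ᵍ⊗ₜ[R] y) = DirectSum.decompose (fun k => ⋀[R]^k A) x i ⊗ₜ DirectSum.decompose (fun k => ⋀[R]^k C) y j :=
  rfl

theorem proj_includeLeft_mul {k : ℕ} (i j : ℕ) (hki : i ≤ k) (a : ⋀[R]^k A) (w : GT R A C) :
    proj i j (GradedTensorProduct.includeLeft (fun l => ⋀[R]^l A) (fun l => ⋀[R]^l C) (a : ExteriorAlgebra R A) * w) =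
      if h : k = i then (h ▸ a) ⊗ₜ DirectSum.decompose (fun l => ⋀[R]^l C) (eps w) j else 0 := by
  obtain ⟨w, rfl⟩ := (GradedTensorProduct.of R (fun l => ⋀[R]^l A) (fun l => ⋀[R]^l C)).surjective w
  induction w using TensorProduct.induction_on with
  | zero => simp
  | add u v hu hv =>
    simp only [map_add, mul_add, hu, hv, DirectSum.decompose_add, DirectSum.add_apply]
    split_ifs <;> simp [TensorProduct.tmul_add]
  | tmul x y =>
    have hm : GradedTensorProduct.includeLeft (fun l => ⋀[R]^l A) (fun l => ⋀[R]^l C) (a : ExteriorAlgebra R A) *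
        (x ᵍ⊗ₜ[R] y) = ((a : ExteriorAlgebra R A) * x) ᵍ⊗ₜ[R] y := by
      have e : ∀ z, (z ᵍ⊗ₜ[R] y : GT R A C) =
          GradedTensorProduct.includeLeft (fun l => ⋀[R]^l A) (fun l => ⋀[R]^l C) z * ((1 : ExteriorAlgebra R A) ᵍ⊗ₜ[R] y) :=
        fun z => (GradedTensorProduct.tmul_one_mul_one_tmul _ _ z y).symm
      rw [e x, ← mul_assoc, ← map_mul, ← e]
    show proj i j (_ * (x ᵍ⊗ₜ[R] y)) = if h : k = i then (h ▸ a) ⊗ₜ DirectSum.decompose (fun l => ⋀[R]^l C) (eps (x ᵍ⊗ₜ[R] y)) j else 0
    rw [hm, proj_tmul]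
    split_ifs with h
    · subst h
      have e1 : DirectSum.decompose (fun l => ⋀[R]^l A) ((a : ExteriorAlgebra R A) * x) k =
          algebraMapInv (R := R) (M := A) x • a := Subtype.ext <| by
        rw [DirectSum.coe_decompose_mul_of_left_mem_of_le (fun l => ⋀[R]^l A) a.2 le_rfl, Nat.sub_self,
          coe_decompose_zero, ← Algebra.commutes, ← Algebra.smul_def]
        rfl
      rw [e1, eps, GradedTensorProduct.lift_tmul, TensorProduct.smul_tmul]
      simp [← Algebra.smul_def, DirectSum.smul_apply]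
    · have e1 : DirectSum.decompose (fun l => ⋀[R]^l A) ((a : ExteriorAlgebra R A) * x) i = 0 :=
        Subtype.ext (DirectSum.coe_decompose_mul_of_left_mem_of_not_le (fun l => ⋀[R]^l A) a.2
          (by omega))
      rw [e1, TensorProduct.zero_tmul]

/-- The retraction onto the graded piece. -/
def nu (i j n : ℕ) : (⋀[R]^n B) →ₗ[R] (⋀[R]^i A) ⊗[R] (⋀[R]^j C) :=
  proj i j ∘ₗ (delta p r).toLinearMap ∘ₗ (⋀[R]^n B).subtype

variable {f p r} (hrf : ∀ a, r (f a) = a) (hpf : ∀ a, p (f a) = 0)

include hrf hpf in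
theorem delta_map (a : ExteriorAlgebra R A) : delta p r (ExteriorAlgebra.map f a) =
    GradedTensorProduct.includeLeft (fun l => ⋀[R]^l A) (fun l => ⋀[R]^l C) a := by
  have h : (delta p r).comp (ExteriorAlgebra.map f) =
      GradedTensorProduct.includeLeft (fun l => ⋀[R]^l A) (fun l => ⋀[R]^l C) := by
    refine ExteriorAlgebra.hom_ext (LinearMap.ext fun v => ?_)
    simp only [LinearMap.comp_apply, AlgHom.toLinearMap_apply, AlgHom.comp_apply,
      ExteriorAlgebra.map_apply_ι, delta_ι, hrf, hpf, map_zero, add_zero]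
  exact DFunLike.congr_fun h a

theorem eps_delta (b : ExteriorAlgebra R B) : eps (delta p r b) = ExteriorAlgebra.map p b := by
  have h : eps.comp (delta p r) = ExteriorAlgebra.map p := by
    refine ExteriorAlgebra.hom_ext (LinearMap.ext fun v => ?_)
    simp only [LinearMap.comp_apply, AlgHom.toLinearMap_apply, AlgHom.comp_apply,
      ExteriorAlgebra.map_apply_ι, delta_ι, map_add]
    simp [eps, algebraMapInv]
  exact DFunLike.congr_fun h b

include hrf hpf in
theorem nu_mu {i j n : ℕ} (h : i + j = n) (t : (⋀[R]^i A) ⊗[R] (⋀[R]^j B)) :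
    nu p r i j n (mu h f t) = LinearMap.lTensor _ (exteriorPower.map j p) t := by
  induction t using TensorProduct.induction_on with
  | zero => simp
  | add x y hx hy => simp only [map_add, hx, hy]
  | tmul a b =>
    show proj i j (delta p r (mu h f (a ⊗ₜ b) : ExteriorAlgebra R B)) = _
    rw [coe_mu, map_mul, delta_map hrf hpf, proj_includeLeft_mul i j le_rfl a, dif_pos rfl, eps_delta, ← coe_map,
      DirectSum.decompose_coe, DirectSum.of_eq_same]
    rfl

include hrf hpf in
theorem nu_mu_succ {i j j' n : ℕ} (h : i + 1 + j' = n) (t : (⋀[R]^(i + 1) A) ⊗[R] (⋀[R]^j' B)) :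
    nu p r i j n (mu h f t) = 0 := by
  induction t using TensorProduct.induction_on with
  | zero => simp
  | add x y hx hy => simp only [map_add, hx, hy, add_zero]
  | tmul a b =>
    show proj i j (delta p r (mu h f (a ⊗ₜ b) : ExteriorAlgebra R B)) = _
    rw [coe_mu, map_mul, delta_map hrf hpf, proj_includeLeft_mul i j (Nat.le_succ i) a, dif_neg (by omega)]

end Groth.Agent.Lib.ExtFilt.Algebra
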