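import Groth.Agent.Lib.ExtFilt.Sheaf
import Groth.Agent.Lib.KRes.KSub
import Groth.Prelude.Def_SGA6

/-!
# The class of an exterior power of an extension
-/

set_option autoImplicit false
set_option linter.style.haveILetI false
universe u

open CategoryTheory CategoryTheory.Limits AlgebraicGeometry Opposite TopologicalSpace

noncomputable section

namespace Groth.Agent.Lib.ExtFilt.Main

open Groth.Agent.Lib Sheaf
open Groth.Agent.Lib.TensorMod.Dual (rs)
open Groth.Agent.Lib.Modules.TensorSec (section_ext app_rs rs_zero)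

variable {X : Scheme.{u}}

/-- The class of a bundle. -/
abbrev cl (M : X.Modules) : SGA6.Kvb X := KZero.clSub (fun M : X.Modules => FlatMod.IsFinLocFree M) M

variable {S : ShortComplex X.Modules} (F₁ : Fam S.X₁) (F₂ : Fam S.X₂) (F₃ : Fam S.X₃) (hS : S.ShortExact)
  (h₁ : FlatMod.IsFinLocFree S.X₁) (h₂ : FlatMod.IsFinLocFree S.X₂) (h₃ : FlatMod.IsFinLocFree S.X₃)

theorem free_tensor (i j : ℕ) : FlatMod.IsFinLocFree (CohB1.tensorMod (F₁.L i) (F₃.L j)) :=
  TensorMod.LocFree.isFinLocFree_tensorMod (F₁.free i) (F₃.free j)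

include hS h₁ h₂ h₃ in
theorem cokernel_class {n : ℕ} : ∀ (i j : ℕ) (h : i + j = n),
    FlatMod.IsFinLocFree (cokernel (muHom F₁ F₂ S.f h)) ∧
      cl (cokernel (muHom F₁ F₂ S.f h)) =
        ∑ k ∈ Finset.range i, cl (CohB1.tensorMod (F₁.L k) (F₃.L (n - k))) := by
  intro i
  induction i with
  | zero =>
    intro j h
    obtain rfl : j = n := by omega
    haveI := epi_muHom_zero F₁ F₂ S.f h
    have hz : IsZero (cokernel (muHom F₁ F₂ S.f h)) := isZero_cokernel_of_epi _
    haveI : (cokernel (muHom F₁ F₂ S.f h)).IsQuasicoherent := by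
      haveI := qcoh F₂ j
      haveI : (CohB1.tensorMod (F₁.L 0) (F₂.L j)).IsQuasicoherent :=
        Modules.AffineSections.isQCoh_of_isFinLocFree
          (TensorMod.LocFree.isFinLocFree_tensorMod (F₁.free 0) (F₂.free j))
      exact QCoh.Closure.isQCoh_cokernel _
    have hfree : FlatMod.IsFinLocFree (cokernel (muHom F₁ F₂ S.f h)) :=
      Modules.AffineSections.isFinLocFree_of_sections fun x => by
        obtain ⟨U, -, hxU⟩ := Modules.AffineHom.exists_affine (show x ∈ (⊤ : X.Opens) from trivial)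
        haveI := Modules.AffineSections.subsingleton_sections hz U.1
        exact ⟨U.1, U.2, hxU, inferInstance, inferInstance⟩
    exact ⟨hfree, by rw [Finset.sum_range_zero]; exact KRes.KSub.clSub_zero hz hfree⟩
  | succ i ih =>
    intro j h
    have h' : i + (j + 1) = n := by omega
    obtain ⟨hC, hcl⟩ := ih (j + 1) h'
    let μ' := muHom F₁ F₂ S.f h
    obtain ⟨T, hT, e₁, e₂, e₃⟩ := exists_step F₁ F₂ F₃ hS h₁ h₂ h₃ h' (cokernel.π μ')
      (cokernel.desc μ' (cokernel.π (muHom F₁ F₂ S.f h')) (muHom_comp_cokernel F₁ F₂ S.f h h'))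
      (cokernel.π_desc _ _ _)
      (fun U s hs => by
        obtain ⟨t, ht⟩ := muHom_sub_mem F₁ F₂ F₃ hS h₁ h₂ h₃ h' h U s hs
        rw [ht]
        exact congr(($(cokernel.condition μ')).app U.1 t))
      (fun U s hs => section_ext _ _ _ fun x hx => by
        obtain ⟨W, hW, m, hxW, hm⟩ := Modules.LocalSections.exists_preimage_of_exact
          (h := ShortComplex.exact_of_g_is_cokernel
            (ShortComplex.mk μ' (cokernel.π μ') (cokernel.condition μ')) (cokernelIsCokernel μ'))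
          ((muHom F₁ F₂ S.f h').app U.1 s) hs hx
        obtain ⟨V, hVW, hxV⟩ := Modules.AffineHom.exists_affine hxW
        refine ⟨V.1, hVW.trans hW, hxV, ?_⟩
        rw [rs_zero, ← app_rs]
        refine qHom_eq_zero_of_muHom_eq F₁ F₂ F₃ hS h₁ h₂ h₃ h' V _ h (rs _ hVW m) ?_
        rw [app_rs, app_rs, hm, TensorMod.Dual.rs_rs])
    have hT₁ : FlatMod.IsFinLocFree T.X₁ := e₁ ▸ free_tensor F₁ F₃ i (j + 1)
    have hT₃ : FlatMod.IsFinLocFree T.X₃ := e₃ ▸ hC
    have hT₂ := isFinLocFree_extension hT hT₁ hT₃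
    have hrel := KRes.KSub.rel (P := fun M : X.Modules => FlatMod.IsFinLocFree M) hT hT₁ hT₂ hT₃
    rw [e₂] at hT₂
    rw [e₁, e₂, e₃] at hrel
    refine ⟨hT₂, ?_⟩
    rw [Finset.sum_range_succ, add_comm (Finset.sum _ _)]
    refine hrel.trans (congrArg₂ (· + ·) ?_ hcl)
    rw [show n - i = j + 1 by omega]

include hS h₁ h₂ h₃ in
/-- The class of an exterior power of an extension. -/
theorem class_eq (n : ℕ) :
    cl (F₂.L n) = ∑ i ∈ Finset.range (n + 1), cl (CohB1.tensorMod (F₁.L i) (F₃.L (n - i))) := by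
  have h : n + 0 = n := rfl
  obtain ⟨T, hT, e₁, e₂, e₃⟩ := exists_step F₁ F₂ F₃ hS h₁ h₂ h₃ h (𝟙 (F₂.L n)) (cokernel.π _)
    (Category.id_comp _)
    (fun U s hs => by
      rw [qHom_zero_injective F₁ F₂ F₃ hS h₁ h₂ h₃ n U s hs, map_zero, map_zero])
    (fun U s hs => by
      refine qHom_eq_zero_of_muHom_zero F₁ F₂ F₃ hS h₁ h₂ h₃ h U s ?_
      rwa [Scheme.Modules.Hom.id_app, ConcreteCategory.id_apply] at hs)
  obtain ⟨hC, hcl⟩ := cokernel_class F₁ F₂ F₃ hS h₁ h₂ h₃ n 0 h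
  have hrel := KRes.KSub.rel (P := fun M : X.Modules => FlatMod.IsFinLocFree M) hT (e₁ ▸ free_tensor F₁ F₃ n 0)
    (e₂ ▸ F₂.free n) (e₃ ▸ hC)
  rw [e₁, e₂, e₃] at hrel
  rw [Finset.sum_range_succ, add_comm (Finset.sum _ _), Nat.sub_self]
  exact hrel.trans (congrArg₂ (· + ·) rfl hcl)

end Groth.Agent.Lib.ExtFilt.Main
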